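import Groth.Agent.Lib.CplRlim27.Cpl
import Groth.Agent.Lib.RGamma27.CechLC
import Groth.Agent.Lib.ExtCech.DT
import Mathlib.LinearAlgebra.TensorProduct.Quotient
import Mathlib.Algebra.Homology.SingleHomology

/-!
# The completed extended Čech complex
-/

set_option autoImplicit false
universe u

open CategoryTheory CategoryTheory.Limits CategoryTheory.Pretriangulated CategoryTheory.MonoidalCategory TensorProduct

attribute [local instance] HasDerivedCategory.standard

noncomputable section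

namespace Groth.Agent.CplRlim27

open TorsBC27

variable {A : Type u} [CommRing A]

/-- The augmentation of the extended Čech complex. -/
def pC (M : ModuleCat.{u} A) : ∀ fs : List A,
    DerCA.extCech M fs ⟶ (HomologicalComplex.single (ModuleCat.{u} A) (ComplexShape.up ℤ) 0).obj M
  | [] => 𝟙 _
  | g :: fs =>
    CochainComplex.mappingCocone.fst (DerCA.locCxUnit (Submonoid.powers g) (DerCA.extCech M fs)) ≫ pC M fs

theorem isIso_pC0 (M : ModuleCat.{u} A) : ∀ fs : List A, IsIso ((pC M fs).f 0)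
  | [] => inferInstanceAs (IsIso (𝟙 _))
  | g :: fs => by
    have := isIso_pC0 M fs
    let φ := DerCA.locCxUnit (Submonoid.powers g) (DerCA.extCech M fs)
    have hz : IsZero (((DerCA.locCx (Submonoid.powers g)).obj (DerCA.extCech M fs)).X (-1)) :=
      (DMod.isZero_iff_subsingleton _).2
        (subsingleton_of_forall_eq 0 (ExtCechLib.loc_eq_zero M g fs (show (-1 : ℤ) < 0 by omega)))
    have h2 := CochainComplex.mappingCocone.id_X φ 0 (-1) (by omega)
    rw [hz.eq_of_tgt ((CochainComplex.mappingCocone.snd φ).v 0 (-1) _) 0, zero_comp, add_zero] at h2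
    have : IsIso ((CochainComplex.mappingCocone.fst φ).f 0) :=
      ⟨⟨(CochainComplex.mappingCocone.inl φ).v 0 0 (add_zero _), h2,
        CochainComplex.mappingCocone.inl_v_fst_f φ 0⟩⟩
    exact inferInstanceAs (IsIso ((CochainComplex.mappingCocone.fst φ).f 0 ≫ (pC M fs).f 0))

theorem bij_pC (M : ModuleCat.{u} A) : ∀ (fs : List A) (X : DRing.Cx A), (∀ g ∈ fs, GTors g X) →
    Function.Bijective (fun f : DerivedCategory.Q.obj X ⟶ DerivedCategory.Q.obj (DerCA.extCech M fs) =>
      f ≫ DerivedCategory.Q.map (pC M fs))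
  | [], X, _ => by
    have e : (fun f : DerivedCategory.Q.obj X ⟶ DerivedCategory.Q.obj (DerCA.extCech M []) =>
        f ≫ DerivedCategory.Q.map (pC M [])) = fun f => f :=
      funext fun f => (congrArg (f ≫ ·) (DerivedCategory.Q.map_id _)).trans (Category.comp_id f)
    rw [e]
    exact Function.bijective_id
  | g :: fs, X, hX => by
    have h := (bij_pC M fs X fun a ha => hX a (List.mem_cons_of_mem g ha)).comp (fst_comp_bijective
      (DerCA.locCxUnit (Submonoid.powers g) (DerCA.extCech M fs))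
      (fun i => by simpa using ExtCechLib.g_bijective g (DerCA.extCech M fs) i 1) (hX g List.mem_cons_self))
    have e : (fun f : DerivedCategory.Q.obj X ⟶ DerivedCategory.Q.obj (DerCA.extCech M (g :: fs)) =>
        f ≫ DerivedCategory.Q.map (pC M (g :: fs))) =
        (fun f => f ≫ DerivedCategory.Q.map (pC M fs)) ∘
          fun f => f ≫ DerivedCategory.Q.map (CochainComplex.mappingCocone.fst
            (DerCA.locCxUnit (Submonoid.powers g) (DerCA.extCech M fs))) :=
      funext fun f => ((congrArg (f ≫ ·) (DerivedCategory.Q.map_comp _ _)).trans (Category.assoc f _ _).symm)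
    rw [e]
    exact h

variable (I : Ideal A)

/-- `X/I^nX ≅ X ⊗ A/I^n`, naturally. -/
def qFIso (n : ℕ) : qF I n ≅ tensorRight (ModuleCat.of A (A ⧸ I ^ n)) :=
  NatIso.ofComponents (fun X => (TensorProduct.tensorQuotEquivQuotSMul (M := X) (I ^ n)).symm.toModuleIso)
    (fun f => ModuleCat.hom_ext (Submodule.linearMap_qext _ (LinearMap.ext fun x => rfl)))

/-- The augmentation modulo `I ^ n`. -/
def pQ (n : ℕ) (M : ModuleCat.{u} A) (fs : List A) :
    (qCx I n).obj (DerCA.extCech M fs) ⟶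
      (HomologicalComplex.single (ModuleCat.{u} A) (ComplexShape.up ℤ) 0).obj ((qF I n).obj M) :=
  (qCx I n).map (pC M fs) ≫
    ((HomologicalComplex.singleMapHomologicalComplex (qF I n) (ComplexShape.up ℤ) 0).app M).hom

theorem isIso_pQ0 (n : ℕ) (M : ModuleCat.{u} A) (fs : List A) : IsIso ((pQ I n M fs).f 0) := by
  have := isIso_pC0 M fs
  have h1 : IsIso ((qF I n).map ((pC M fs).f 0)) := inferInstance
  have h2 : IsIso ((((HomologicalComplex.singleMapHomologicalComplex (qF I n) (ComplexShape.up ℤ) 0).app M).hom).f 0) :=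
    inferInstanceAs (IsIso (((HomologicalComplex.eval (ModuleCat.{u} A) (ComplexShape.up ℤ) 0).mapIso
      ((HomologicalComplex.singleMapHomologicalComplex (qF I n) (ComplexShape.up ℤ) 0).app M)).hom))
  exact @IsIso.comp_isIso _ _ _ _ _ _ _ h1 h2

theorem exists_qCech_iso (n : ℕ) (M : ModuleCat.{u} A) (fs : List A) :
    Nonempty ((qCx I n).obj (DerCA.extCech M fs) ≅ DerCA.extCech ((qF I n).obj M) fs) := by
  obtain ⟨a⟩ := exists_cech_tensor_iso (ModuleCat.of A (A ⧸ I ^ n)) M fs
  let e := ((qFIso I n).app M).symm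
  have : ∀ i, IsIso ((ExtCechLib.Cmap e.hom fs).f i) := fun i => (ConcreteCategory.isIso_iff_bijective _).2
    ⟨ExtCechLib.cm_injective (f := e.hom) e.toLinearEquiv.injective fs i,
      ExtCechLib.cm_surjective (p := e.hom) e.toLinearEquiv.surjective fs i⟩
  have := HomologicalComplex.Hom.isIso_of_components (ExtCechLib.Cmap e.hom fs)
  exact ⟨(NatIso.mapHomologicalComplex (qFIso I n) (ComplexShape.up ℤ)).app _ ≪≫ a ≪≫
    asIso (ExtCechLib.Cmap e.hom fs)⟩

theorem gTors_qCech (n : ℕ) (M : ModuleCat.{u} A) (fs : List A) :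
    ∀ g ∈ fs, GTors g ((qCx I n).obj (DerCA.extCech M fs)) := fun g hg => by
  obtain ⟨β⟩ := exists_qCech_iso I n M fs
  exact (gTors_extCech ((qF I n).obj M) fs g hg).of_quasiIso β.hom

theorem bij_pQ (n : ℕ) (M : ModuleCat.{u} A) (fs : List A) (X : DRing.Cx A) (hX : ∀ g ∈ fs, GTors g X) :
    Function.Bijective (fun f : DerivedCategory.Q.obj X ⟶ DerivedCategory.Q.obj ((qCx I n).obj (DerCA.extCech M fs)) =>
      f ≫ DerivedCategory.Q.map (pQ I n M fs)) := by
  obtain ⟨β⟩ := exists_qCech_iso I n M fs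
  let q := pC ((qF I n).obj M) fs
  let S := HomologicalComplex.single (ModuleCat.{u} A) (ComplexShape.up ℤ) 0
  let x := HomologicalComplex.singleObjXSelf (ComplexShape.up ℤ) 0 ((qF I n).obj M)
  have := isIso_pC0 ((qF I n).obj M) fs
  have := isIso_pQ0 I n M fs
  have : IsIso ((β.hom).f 0) := inferInstanceAs (IsIso ((HomologicalComplex.eval _ _ 0).mapIso β).hom)
  let φ : (qF I n).obj M ⟶ (qF I n).obj M :=
    x.inv ≫ inv (q.f 0) ≫ inv (β.hom.f 0) ≫ (pQ I n M fs).f 0 ≫ x.hom
  have hφ : pQ I n M fs = β.hom ≫ q ≫ S.map φ := by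
    apply HomologicalComplex.to_single_hom_ext
    rw [HomologicalComplex.comp_f, HomologicalComplex.comp_f, HomologicalComplex.single_map_f_self]
    show _ = β.hom.f 0 ≫ q.f 0 ≫ x.hom ≫ (x.inv ≫ inv (q.f 0) ≫ inv (β.hom.f 0) ≫ (pQ I n M fs).f 0 ≫ x.hom) ≫ x.inv
    simp
  have : IsIso φ := inferInstance
  have e : (fun f : DerivedCategory.Q.obj X ⟶ DerivedCategory.Q.obj ((qCx I n).obj (DerCA.extCech M fs)) =>
      f ≫ DerivedCategory.Q.map (pQ I n M fs)) =
      (fun f => f ≫ DerivedCategory.Q.map (S.map φ)) ∘ (fun f => f ≫ DerivedCategory.Q.map q) ∘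
        fun f => f ≫ DerivedCategory.Q.map β.hom := funext fun f => by
    show f ≫ _ = ((f ≫ _) ≫ _) ≫ _
    rw [hφ, Functor.map_comp, Functor.map_comp, Category.assoc, Category.assoc]
  rw [e]
  refine Function.Bijective.comp ?_ ((bij_pC _ fs X hX).comp ?_)
  · exact ⟨fun a b h => (cancel_mono (DerivedCategory.Q.map (S.map φ))).1 h,
      fun b => ⟨b ≫ inv (DerivedCategory.Q.map (S.map φ)),
        (Category.assoc _ _ _).trans ((congrArg (b ≫ ·) (IsIso.inv_hom_id _)).trans (Category.comp_id b))⟩⟩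
  · exact ⟨fun a b h => (cancel_mono (DerivedCategory.Q.map β.hom)).1 h,
      fun b => ⟨b ≫ inv (DerivedCategory.Q.map β.hom),
        (Category.assoc _ _ _).trans ((congrArg (b ≫ ·) (IsIso.inv_hom_id _)).trans (Category.comp_id b))⟩⟩

theorem qτ_pQ (n : ℕ) (M : ModuleCat.{u} A) (fs : List A) :
    (NatTrans.mapHomologicalComplex (qτ I n) (ComplexShape.up ℤ)).app (DerCA.extCech M fs) ≫ pQ I n M fs =
      pQ I (n + 1) M fs ≫ (HomologicalComplex.single (ModuleCat.{u} A) (ComplexShape.up ℤ) 0).map ((qτ I n).app M) := by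
  apply HomologicalComplex.to_single_hom_ext
  refine ModuleCat.hom_ext (Submodule.linearMap_qext _ (LinearMap.ext fun x => ?_))
  rfl

section Noetherian

variable (J : Ideal A) (fs : List A) (hfs : Ideal.span {y : A | y ∈ fs} = J)
include hfs

theorem gTors_of_hd (X : DRing.Cx A) (h : ∀ i, LocCoh.IsPowerTorsion J (Dual.HD A (DerivedCategory.Q.obj X) i)) :
    ∀ g ∈ fs, GTors g X := fun g hg j x => by
  obtain ⟨l⟩ := RGamma27.HD_iso (K := X) j
  obtain ⟨n, hn⟩ := RGamma27.isPowerTorsion_of_equiv J l (h j) x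
  exact ⟨n, hn _ (Ideal.pow_mem_pow (hfs ▸ Ideal.subset_span hg) n)⟩

theorem hd_of_gTors (X : DRing.Cx A) (h : ∀ g ∈ fs, GTors g X) (i : ℤ) :
    LocCoh.IsPowerTorsion J (Dual.HD A (DerivedCategory.Q.obj X) i) := by
  obtain ⟨l⟩ := RGamma27.HD_iso (K := X) i
  refine RGamma27.isPowerTorsion_of_equiv J l.symm fun x => ?_
  have := (RGamma27.tors_iff fs).1 (fun g hg => h g hg i x)
  rw [hfs] at this
  exact this

variable [IsNoetherianRing A] [DRing.HasRgammaI J]

/-- A complex with torsion cohomology and bijective augmentation computes the derived torsion functor. -/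
theorem exists_unique_comparison (X : DRing.Cx A) (hX : ∀ g ∈ fs, GTors g X) (K : Dual.D A)
    (c : DerivedCategory.Q.obj X ⟶ K)
    (hc : ∀ Y : DRing.Cx A, (∀ g ∈ fs, GTors g Y) →
      Function.Bijective (fun f : DerivedCategory.Q.obj Y ⟶ DerivedCategory.Q.obj X => f ≫ c)) :
    ∃ k : DerivedCategory.Q.obj X ≅ (DRing.RgammaI J).obj K, k.hom ≫ (DRing.RgammaIε J).app K = c := by
  have hX' := hd_of_gTors J fs hfs X hX
  obtain ⟨a, ha⟩ := (RGamma27.comp_ε_bijective J _ K hX').2 c
  simp only at ha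
  let R := (DRing.RgammaI J).obj K
  let W := DerivedCategory.Q.objPreimage R
  let e : DerivedCategory.Q.obj W ≅ R := DerivedCategory.Q.objObjPreimageIso R
  have hW : ∀ g ∈ fs, GTors g W := gTors_of_hd J fs hfs W fun i =>
    RGamma27.isPowerTorsion_HD_iso J e.symm i (RGamma27.isPowerTorsion_RgammaI J K i)
  obtain ⟨b, hb⟩ := (hc W hW).2 (e.hom ≫ (DRing.RgammaIε J).app K)
  simp only at hb
  refine ⟨⟨a, e.inv ≫ b, (hc X hX).1 ?_, (RGamma27.comp_ε_bijective J _ K (RGamma27.isPowerTorsion_RgammaI J K)).1 ?_⟩, ha⟩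
  · show (a ≫ e.inv ≫ b) ≫ c = 𝟙 _ ≫ c
    rw [Category.assoc, Category.assoc, hb, e.inv_hom_id_assoc, ha, Category.id_comp]
  · show ((e.inv ≫ b) ≫ a) ≫ _ = 𝟙 _ ≫ _
    rw [Category.assoc, ha, Category.assoc, hb, e.inv_hom_id_assoc, Category.id_comp]

end Noetherian

end Groth.Agent.CplRlim27
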