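import Groth.Agent.Lib.CplRlim27.Prod
import Groth.Agent.Lib.DCpl.TensorCpl
import Groth.Agent.Lib.RHom.HomologyExact
import Groth.Agent.Lib.TorsBC27.Main
import Groth.Agent.Lib.ExtCech.Funct
import Mathlib.RingTheory.AdicCompletion.Functoriality
import Mathlib.RingTheory.AdicCompletion.Completeness

/-!
# Termwise adic completion is derived completion for bounded complexes with terms `M ⊗ N`, `N` flat
-/

set_option autoImplicit false
universe u

open CategoryTheory CategoryTheory.Limits CategoryTheory.Pretriangulated CategoryTheory.MonoidalCategory TensorProduct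

attribute [local instance] HasDerivedCategory.standard

noncomputable section

namespace Groth.Agent.CplRlim27

open DCpl

variable {A : Type u} [CommRing A] (I : Ideal A)

/-- `I`-adic completion as a functor. -/
def cplF : ModuleCat.{u} A ⥤ ModuleCat.{u} A where
  obj M := ModuleCat.of A (AdicCompletion I M)
  map f := ModuleCat.ofHom ((AdicCompletion.map I f.hom).restrictScalars A)
  map_id M := ModuleCat.hom_ext (LinearMap.ext fun x => LinearMap.congr_fun (AdicCompletion.map_id I M) x)
  map_comp f g := ModuleCat.hom_ext (LinearMap.ext fun x => (AdicCompletion.map_comp_apply I f.hom g.hom x).symm)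

instance : (cplF I).Additive where
  map_add {M N f g} := ModuleCat.hom_ext (LinearMap.ext fun x => AdicCompletion.ext fun n => by
    obtain ⟨y, hy⟩ := Submodule.Quotient.mk_surjective _ (x.val n)
    show (f + g).hom.reduceModIdeal (I ^ n) (x.val n) =
      f.hom.reduceModIdeal (I ^ n) (x.val n) + g.hom.reduceModIdeal (I ^ n) (x.val n)
    rw [← hy, LinearMap.reduceModIdeal_apply, LinearMap.reduceModIdeal_apply, LinearMap.reduceModIdeal_apply]
    rfl)

/-- The completion map. -/
def cplη : 𝟭 (ModuleCat.{u} A) ⟶ cplF I where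
  app M := ModuleCat.ofHom (X := M) (Y := AdicCompletion I M) (AdicCompletion.of I M)
  naturality M N f := ModuleCat.hom_ext (LinearMap.ext fun x => (AdicCompletion.map_of I f.hom x).symm)

theorem smul_top_le_comap (n : ℕ) {M N : Type u} [AddCommGroup M] [Module A M] [AddCommGroup N] [Module A N]
    (f : M →ₗ[A] N) : (I ^ n • ⊤ : Submodule A M) ≤ (I ^ n • ⊤ : Submodule A N).comap f :=
  Submodule.map_le_iff_le_comap.1 (by rw [Submodule.map_smul'']; exact Submodule.smul_mono le_rfl le_top)

/-- `M ↦ M/I^nM` as a functor. -/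
def qF (n : ℕ) : ModuleCat.{u} A ⥤ ModuleCat.{u} A where
  obj M := ModuleCat.of A (M ⧸ (I ^ n • ⊤ : Submodule A M))
  map f := ModuleCat.ofHom (Submodule.mapQ _ _ f.hom (smul_top_le_comap I n f.hom))
  map_id M := ModuleCat.hom_ext (Submodule.linearMap_qext _ rfl)
  map_comp f g := ModuleCat.hom_ext (Submodule.linearMap_qext _ rfl)

instance (n : ℕ) : (qF I n).Additive where
  map_add := ModuleCat.hom_ext (Submodule.linearMap_qext _ rfl)

/-- The transition map. -/
def qτ (n : ℕ) : qF I (n + 1) ⟶ qF I n where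
  app M := ModuleCat.ofHom (Submodule.mapQ (I ^ (n + 1) • ⊤ : Submodule A M) (I ^ n • ⊤ : Submodule A M)
    LinearMap.id (Submodule.smul_mono (Ideal.pow_le_pow_right (Nat.le_succ n)) le_rfl))
  naturality M N f := ModuleCat.hom_ext (Submodule.linearMap_qext _ rfl)

/-- The projection of the completion. -/
def cplProj (n : ℕ) : cplF I ⟶ qF I n where
  app M := ModuleCat.ofHom (X := AdicCompletion I M) (Y := M ⧸ (I ^ n • ⊤ : Submodule A M)) (AdicCompletion.eval I M n)
  naturality M N f := ModuleCat.hom_ext (LinearMap.ext fun x => by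
    obtain ⟨y, hy⟩ := Submodule.Quotient.mk_surjective _ (x.val n)
    show f.hom.reduceModIdeal (I ^ n) (x.val n) = Submodule.mapQ _ _ f.hom (smul_top_le_comap I n f.hom) (x.val n)
    rw [← hy, LinearMap.reduceModIdeal_apply]
    rfl)

theorem cplProj_qτ (n : ℕ) : cplProj I (n + 1) ≫ qτ I n = cplProj I n := by
  ext M : 2
  exact ModuleCat.hom_ext (LinearMap.ext fun x => x.property (Nat.le_succ n))

/-- Termwise completion of complexes. -/
abbrev cplCx : DRing.Cx A ⥤ DRing.Cx A := (cplF I).mapHomologicalComplex (ComplexShape.up ℤ)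

/-- The termwise completion map. -/
def cplηCx (X : DRing.Cx A) : X ⟶ (cplCx I).obj X where
  f i := (cplη I).app (X.X i)
  comm' i j _ := ((cplη I).naturality (X.d i j)).symm

/-- Termwise reduction modulo `I ^ n`. -/
abbrev qCx (n : ℕ) : DRing.Cx A ⥤ DRing.Cx A := (qF I n).mapHomologicalComplex (ComplexShape.up ℤ)

theorem isCpl_shift {s : Set A} {K C : Dual.D A} {η : K ⟶ C} (h : IsCpl s η) (n : ℤ) :
    IsCpl s (η⟦n⟧') := by
  refine ⟨fun f hf => (h.1 f hf).shift n, fun E hE => ?_⟩
  let adj := (shiftEquiv (Dual.D A) n).toAdjunction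
  have hb := h.2 (E⟦-n⟧) fun f hf => (hE f hf).shift (-n)
  have e : (fun t : C⟦n⟧ ⟶ E => η⟦n⟧' ≫ t) =
      (adj.homEquiv K E).symm ∘ (fun t : C ⟶ E⟦-n⟧ => η ≫ t) ∘ adj.homEquiv C E := funext fun t => by
    show _ = (adj.homEquiv K E).symm (η ≫ adj.homEquiv C E t)
    rw [Adjunction.homEquiv_naturality_left_symm, Equiv.symm_apply_apply]
    rfl
  rw [e]
  exact (Equiv.bijective _).comp (hb.comp (Equiv.bijective _))

theorem isCpl_iso {s : Set A} {K C K' C' : Dual.D A} {η : K ⟶ C} (h : IsCpl s η) {η' : K' ⟶ C'} (a : K ≅ K')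
    (b : C ≅ C') (comm : η ≫ b.hom = a.hom ≫ η') : IsCpl s η' := by
  refine ⟨fun f hf => (h.1 f hf).of_iso b, fun E hE => ?_⟩
  have e : (fun t : C' ⟶ E => η' ≫ t) =
      (fun t : K ⟶ E => a.inv ≫ t) ∘ (fun t : C ⟶ E => η ≫ t) ∘ fun t : C' ⟶ E => b.hom ≫ t := funext fun t => by
    show η' ≫ t = a.inv ≫ η ≫ b.hom ≫ t
    rw [← Category.assoc η, comm, Category.assoc, a.inv_hom_id_assoc]
  rw [e]
  refine Function.Bijective.comp ?_ ((h.2 E hE).comp ?_)
  · exact ⟨fun x y h => (cancel_epi a.inv).1 h, fun x => ⟨a.hom ≫ x, a.inv_hom_id_assoc x⟩⟩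
  · exact ⟨fun x y h => (cancel_epi b.hom).1 h, fun x => ⟨b.inv ≫ x, b.hom_inv_id_assoc x⟩⟩

/-- Modules of the form `M ⊗ N` with `M` finite and `N` flat. -/
def TGood (X : ModuleCat.{u} A) : Prop :=
  ∃ M N : ModuleCat.{u} A, Module.Finite A M ∧ Module.Flat A N ∧ Nonempty (X ≅ M ⊗ N)

variable [IsNoetherianRing A] (s : List A) (hs : Ideal.span {f | f ∈ s} = I)
include hs

theorem isCpl_single0 (X : ModuleCat.{u} A) (hX : TGood X) :
    IsCpl {f | f ∈ s} ((DMod.single 0).map ((cplη I).app X)) := by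
  obtain ⟨M, N, hM, hN, ⟨e⟩⟩ := hX
  refine isCpl_iso (isCpl_tensor_of I M N s hs) ((DMod.single 0).mapIso e.symm)
    ((DMod.single 0).mapIso ((cplF I).mapIso e.symm)) ?_
  exact ((DMod.single 0).map_comp _ _).symm.trans ((congrArg (DMod.single 0).map
    ((cplη I).naturality e.inv).symm).trans ((DMod.single 0).map_comp _ _))

theorem isCpl_single_cx (a : ℤ) (X : ModuleCat.{u} A) (hX : TGood X) :
    IsCpl {f | f ∈ s} (DerivedCategory.Q.map (cplηCx I ((HomologicalComplex.single (ModuleCat.{u} A)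
      (ComplexShape.up ℤ) a).obj X))) := by
  let sh := (DerivedCategory.singleFunctors (ModuleCat.{u} A)).shiftIso (-a) a 0 (by omega)
  let w := DerivedCategory.singleFunctorIsoCompQ (ModuleCat.{u} A) a
  let m := HomologicalComplex.singleMapHomologicalComplex (cplF I) (ComplexShape.up ℤ) a
  have hc : cplηCx I ((HomologicalComplex.single (ModuleCat.{u} A) (ComplexShape.up ℤ) a).obj X) ≫ m.hom.app X =
      (HomologicalComplex.single (ModuleCat.{u} A) (ComplexShape.up ℤ) a).map ((cplη I).app X) := by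
    apply HomologicalComplex.to_single_hom_ext
    rw [HomologicalComplex.comp_f, HomologicalComplex.single_map_f_self,
      HomologicalComplex.singleMapHomologicalComplex_hom_app_self]
    exact ((Category.assoc _ _ _).symm.trans (congrArg (· ≫ _)
      ((cplη I).naturality (HomologicalComplex.singleObjXSelf (ComplexShape.up ℤ) a X).hom).symm)).trans
        (Category.assoc _ _ _)
  refine isCpl_iso (isCpl_shift (isCpl_single0 I s hs X hX) (-a)) (sh.app X ≪≫ w.app X)
    (sh.app ((cplF I).obj X) ≪≫ w.app ((cplF I).obj X) ≪≫ DerivedCategory.Q.mapIso (m.app X).symm) ?_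
  have h1 : ((DMod.single 0).map ((cplη I).app X))⟦-a⟧' ≫ (sh.app ((cplF I).obj X)).hom =
      (sh.app X).hom ≫ (DMod.single a).map ((cplη I).app X) := sh.hom.naturality ((cplη I).app X)
  have h2 : (DMod.single a).map ((cplη I).app X) ≫ (w.app ((cplF I).obj X)).hom =
      (w.app X).hom ≫ DerivedCategory.Q.map
        ((HomologicalComplex.single (ModuleCat.{u} A) (ComplexShape.up ℤ) a).map ((cplη I).app X)) :=
    w.hom.naturality ((cplη I).app X)
  simp only [Iso.trans_hom, Functor.mapIso_hom, Iso.symm_hom, Category.assoc]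
  rw [reassoc_of% h1]
  refine congrArg ((sh.app X).hom ≫ ·) ?_
  refine (Category.assoc _ _ _).symm.trans ((congrArg (· ≫ _) h2).trans ?_)
  refine (Category.assoc _ _ _).trans (congrArg ((w.app X).hom ≫ ·) ?_)
  refine (DerivedCategory.Q.map_comp _ _).symm.trans (congrArg DerivedCategory.Q.map ?_)
  refine (congrArg (· ≫ (m.app X).inv) hc.symm).trans ((Category.assoc _ _ _).trans ?_)
  exact (congrArg (_ ≫ ·) (m.app X).hom_inv_id).trans (Category.comp_id _)

/-- Termwise completion of a bounded complex with good terms is the derived completion. -/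
theorem isCpl_cplηCx (b : ℤ) (m : ℕ) (L : DRing.Cx A) [L.IsStrictlyLE b] [L.IsStrictlyGE (b + 1 - m)]
    (hL : ∀ i, TGood (L.X i)) : IsCpl {f | f ∈ s} (DerivedCategory.Q.map (cplηCx I L)) := by
  refine RHom.bounded_induction (fun L : DRing.Cx A => IsCpl {f | f ∈ s} (DerivedCategory.Q.map (cplηCx I L)))
    (fun L hL => ?_) (fun S hS h₁ h₃ => ?_) TGood (fun X hX => ?_) (fun {X Y} e hX => ?_)
    (isCpl_single_cx I s hs) b m L hL
  · have h1 : IsZero (DerivedCategory.Q.obj L) := Functor.map_isZero _ hL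
    have h2 : IsZero (DerivedCategory.Q.obj ((cplCx I).obj L)) := Functor.map_isZero _ (Functor.map_isZero _ hL)
    refine ⟨fun f _ i => ?_, fun E _ => ⟨fun x y _ => h2.eq_of_src x y, fun x => ⟨0, h1.eq_of_src _ _⟩⟩⟩
    have := ModuleCat.subsingleton_of_isZero ((DerivedCategory.homologyFunctor (ModuleCat.{u} A) i).map_isZero h2)
    exact DC.of_subsingleton
  · have hS₁ : S.ShortExact :=
      HomologicalComplex.shortExact_of_degreewise_shortExact S fun i => (hS i).some.shortExact
    have hS₂ : (S.map (cplCx I)).ShortExact :=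
      HomologicalComplex.shortExact_of_degreewise_shortExact _ fun i => ((hS i).some.map (cplF I)).shortExact
    let φ : S ⟶ S.map (cplCx I) :=
      { τ₁ := cplηCx I S.X₁
        τ₂ := cplηCx I S.X₂
        τ₃ := cplηCx I S.X₃
        comm₁₂ := by ext i : 1; exact ((cplη I).naturality (S.f.f i)).symm
        comm₂₃ := by ext i : 1; exact ((cplη I).naturality (S.g.f i)).symm }
    let Φ := (invRotate (Dual.D A)).map (DerivedCategory.triangleOfSES.map hS₁ hS₂ φ)
    exact isCpl_triangle₃ (inv_rot_of_distTriang _ (DerivedCategory.triangleOfSES_distinguished hS₁))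
      (inv_rot_of_distTriang _ (DerivedCategory.triangleOfSES_distinguished hS₂)) Φ (isCpl_shift h₃ (-1)) h₁
  · refine ⟨ModuleCat.of A PUnit.{u + 1}, ModuleCat.of A A, inferInstance, inferInstance, ⟨hX.iso ?_⟩⟩
    exact (DMod.isZero_iff_subsingleton _).2 (inferInstanceAs (Subsingleton (PUnit.{u + 1} ⊗[A] A)))
  · obtain ⟨M, N, hM, hN, ⟨a⟩⟩ := hX
    exact ⟨M, N, hM, hN, ⟨e.symm ≪≫ a⟩⟩

omit hs

omit [IsNoetherianRing A] in
theorem tGood_cech (M : ModuleCat.{u} A) [Module.Finite A M] (fs : List A) (i : ℤ) :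
    TGood ((DerCA.extCech M fs).X i) := by
  obtain ⟨a⟩ := TorsBC27.exists_cech_tensor_iso M (ModuleCat.of A A) fs
  let e : (tensorRight M).obj (ModuleCat.of A A) ≅ M := (TensorProduct.lid A M).toModuleIso
  have : IsIso ((ExtCechLib.Cmap e.hom fs).f i) := (ConcreteCategory.isIso_iff_bijective _).2
    ⟨ExtCechLib.cm_injective (f := e.hom) e.toLinearEquiv.injective fs i,
      ExtCechLib.cm_surjective (p := e.hom) e.toLinearEquiv.surjective fs i⟩
  refine ⟨M, (DerCA.extCech (ModuleCat.of A A) fs).X i, inferInstance, RGamma27.flat_cech fs i, ⟨?_⟩⟩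
  exact (asIso ((ExtCechLib.Cmap e.hom fs).f i)).symm ≪≫
    ((HomologicalComplex.eval _ _ i).mapIso a).symm ≪≫ (TensorProduct.comm A _ M).toModuleIso

end Groth.Agent.CplRlim27
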