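import Groth.Agent.Lib.CplRlim27.Main
import Groth.Agent.Lib.Compl.Complete

/-!
# `H⁰` of the derived completion of `RΓ_J(M)` over an adically complete ring
-/

set_option autoImplicit false
universe u

open CategoryTheory CategoryTheory.Limits CategoryTheory.Pretriangulated

attribute [local instance] HasDerivedCategory.standard

noncomputable section

namespace Groth.Agent.CplRlim27

open TorsBC27 DCpl

variable {A : Type u} [CommRing A] (I : Ideal A) (fs : List A) (M : ModuleCat.{u} A)

/-- `M` in degree zero. -/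
abbrev sngl : DRing.Cx A := (HomologicalComplex.single (ModuleCat.{u} A) (ComplexShape.up ℤ) 0).obj M

/-- Elements whose classes modulo all powers of `I` are torsion for the list. -/
def TorsMod (s : M) : Prop := ∀ (n : ℕ), ∀ g ∈ fs, ∃ k : ℕ, g ^ k • s ∈ (I ^ n • ⊤ : Submodule A M)

theorem cplP_neg (z : ((cplCx I).obj (sngl M)).X (-1)) : z = 0 := by
  have : Subsingleton ((sngl M).X (-1)) := ModuleCat.subsingleton_of_isZero
    (HomologicalComplex.isZero_single_obj_X (ComplexShape.up ℤ) 0 M (-1) (by omega))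
  exact (subsingleton_cpl I this).elim _ _

theorem h0_injective :
    Function.Injective (HomologicalComplex.homologyMap ((cplCx I).map (pC M fs)) 0) := by
  refine DMod.homologyMap_injective _ (i := -1) (k := 1) (by simp) (by simp) fun w y _ hy => ?_
  have := isIso_pC0 M fs
  rw [cplP_neg I M y, map_zero] at hy
  have hb := (ConcreteCategory.isIso_iff_bijective ((cplF I).map ((pC M fs).f 0))).1 inferInstance
  exact ⟨0, (map_zero _).trans (hb.1 ((map_zero _).trans hy)).symm.symm⟩

theorem torsMod_of_cycle (w : ((cplCx I).obj (DerCA.extCech M fs)).X 0)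
    (hw : ((cplCx I).obj (DerCA.extCech M fs)).d 0 1 w = 0) (s : M)
    (hs : ((cplCx I).map (pC M fs)).f 0 w =
      (cplηCx I (sngl M)).f 0 ((HomologicalComplex.singleObjXSelf (ComplexShape.up ℤ) 0 M).inv s)) :
    TorsMod I fs M s := by
  intro n g hg
  let C := (qCx I n).obj (DerCA.extCech M fs)
  let an := (NatTrans.mapHomologicalComplex (cplProj I n) (ComplexShape.up ℤ)).app (DerCA.extCech M fs)
  let y : (qF I n).obj ((DerCA.extCech M fs).X 0) := an.f 0 w
  have hy : C.d 0 1 y = 0 := by
    have := ConcreteCategory.congr_hom (an.comm 0 1) w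
    exact this.trans ((congrArg (an.f 1) hw).trans (map_zero _))
  obtain ⟨z, hz⟩ := DMod.exists_cycle (K := C) (k := 1) (by simp) y hy
  obtain ⟨k, hk⟩ := gTors_qCech I n M fs g hg 0 (C.homologyπ 0 z)
  rw [← map_smul] at hk
  obtain ⟨v, hv⟩ := (DMod.homologyπ_eq_zero_iff (K := C) (i := -1) (by simp) _).1 hk
  have hv0 : v = 0 := by
    have : Subsingleton ((DerCA.extCech M fs).X (-1)) :=
      subsingleton_of_forall_eq 0 (ExtCechLib.X_range M fs (-1) (Or.inl (by omega)))
    obtain ⟨v', hv'⟩ := Submodule.Quotient.mk_surjective _ (v : ((DerCA.extCech M fs).X (-1) : Type u) ⧸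
      (I ^ n • ⊤ : Submodule A ((DerCA.extCech M fs).X (-1))))
    rw [Subsingleton.elim v' 0] at hv'
    exact hv'.symm
  rw [hv0, map_zero, map_smul, hz] at hv
  have hgy : g ^ k • y = 0 := hv.symm
  refine ⟨k, ?_⟩
  let x := HomologicalComplex.singleObjXSelf (ComplexShape.up ℤ) 0 M
  have e1 : (qF I n).map ((pC M fs).f 0) y = (cplProj I n).app _ (((cplCx I).map (pC M fs)).f 0 w) :=
    (ConcreteCategory.congr_hom ((cplProj I n).naturality ((pC M fs).f 0)) w).symm
  rw [hs] at e1
  have e2 : (qF I n).map ((pC M fs).f 0) (g ^ k • y) = 0 := (congrArg _ hgy).trans (map_zero _)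
  rw [map_smul, e1] at e2
  have e3 : g ^ k • x.inv s ∈ (I ^ n • ⊤ : Submodule A ((sngl M).X 0)) :=
    (Submodule.Quotient.mk_eq_zero _).1 e2
  have e4 := smul_top_le_comap I n x.hom.hom e3
  rw [Submodule.mem_comap, map_smul] at e4
  rwa [show x.hom.hom (x.inv s) = s from ConcreteCategory.congr_hom x.inv_hom_id s] at e4

theorem exists_cycle_of_torsMod (s : M) (h : TorsMod I fs M s) :
    ∃ w : ((cplCx I).obj (DerCA.extCech M fs)).X 0, ((cplCx I).obj (DerCA.extCech M fs)).d 0 1 w = 0 ∧
      ((cplCx I).map (pC M fs)).f 0 w =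
        (cplηCx I (sngl M)).f 0 ((HomologicalComplex.singleObjXSelf (ComplexShape.up ℤ) 0 M).inv s) := by
  have := isIso_pC0 M fs
  let x := HomologicalComplex.singleObjXSelf (ComplexShape.up ℤ) 0 M
  obtain ⟨w, hw⟩ := ((ConcreteCategory.isIso_iff_bijective ((cplF I).map ((pC M fs).f 0))).1 inferInstance).2
    ((cplηCx I (sngl M)).f 0 (x.inv s))
  refine ⟨w, AdicCompletion.ext fun n => ?_, hw⟩
  let C := (qCx I n).obj (DerCA.extCech M fs)
  let an := (NatTrans.mapHomologicalComplex (cplProj I n) (ComplexShape.up ℤ)).app (DerCA.extCech M fs)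
  let y : (qF I n).obj ((DerCA.extCech M fs).X 0) := an.f 0 w
  show an.f 1 (((cplCx I).obj (DerCA.extCech M fs)).d 0 1 w) = (0 : C.X 1)
  refine (ConcreteCategory.congr_hom (an.comm 0 1) w).symm.trans ?_
  show C.d 0 1 y = 0
  have e1 : (qF I n).map ((pC M fs).f 0) y = (cplProj I n).app _ ((cplηCx I (sngl M)).f 0 (x.inv s)) :=
    (ConcreteCategory.congr_hom ((cplProj I n).naturality ((pC M fs).f 0)) w).symm.trans
      (congrArg ((cplProj I n).app _) hw)
  have hb := (ConcreteCategory.isIso_iff_bijective ((qF I n).map ((pC M fs).f 0))).1 inferInstance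
  obtain ⟨β⟩ := exists_qCech_iso I n M fs
  have hβ := (ConcreteCategory.isIso_iff_bijective ((HomologicalComplex.eval _ _ 1).mapIso β).hom).1 inferInstance
  refine hβ.1 ((ExtCechLib.eq_zero_of_torsion _ fs _ fun g hg => ?_).trans (map_zero _).symm)
  obtain ⟨k, hk⟩ := h n g hg
  refine ⟨k, ?_⟩
  suffices hgy : g ^ k • y = 0 by
    exact (map_smul _ _ _).symm.trans ((congrArg _ ((map_smul (C.d 0 1).hom (g ^ k) _).symm.trans
      ((congrArg (C.d 0 1) hgy).trans (map_zero _)))).trans (map_zero _))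
  refine hb.1 ?_
  rw [map_smul, e1, map_zero]
  have e3 := smul_top_le_comap I n x.inv.hom hk
  rw [Submodule.mem_comap, map_smul] at e3
  exact (Submodule.Quotient.mk_eq_zero _).2 e3

theorem cycle_single (s : M) (z : (sngl M).cycles 0)
    (hz : (sngl M).homologyπ 0 z = (HomologicalComplex.singleObjHomologySelfIso (ComplexShape.up ℤ) 0 M).inv s) :
    (sngl M).iCycles 0 z = (HomologicalComplex.singleObjXSelf (ComplexShape.up ℤ) 0 M).inv s := by
  let e := HomologicalComplex.singleObjHomologySelfIso (ComplexShape.up ℤ) 0 M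
  let x := HomologicalComplex.singleObjXSelf (ComplexShape.up ℤ) 0 M
  have h1 : e.hom ((sngl M).homologyπ 0 z) = s :=
    (congrArg e.hom hz).trans (ConcreteCategory.congr_hom e.inv_hom_id s)
  have h2 : x.hom ((sngl M).iCycles 0 z) = s := by
    have := ConcreteCategory.congr_hom
      (HomologicalComplex.homologyπ_singleObjHomologySelfIso_hom (ComplexShape.up ℤ) 0 M) z
    exact ((this.symm).trans h1 : _)
  rw [← h2]
  exact (ConcreteCategory.congr_hom x.hom_inv_id _).symm

/-- The image of `H⁰` of the completed Čech complex. -/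
theorem mem_range_h0_iff (hM : IsAdicComplete I M) (q : ((cplCx I).obj (sngl M)).homology 0) :
    q ∈ Set.range (HomologicalComplex.homologyMap ((cplCx I).map (pC M fs)) 0) ↔
      ∃ s : M, TorsMod I fs M s ∧ HomologicalComplex.homologyMap (cplηCx I (sngl M)) 0
        ((HomologicalComplex.singleObjHomologySelfIso (ComplexShape.up ℤ) 0 M).inv s) = q := by
  let e := HomologicalComplex.singleObjHomologySelfIso (ComplexShape.up ℤ) 0 M
  let x := HomologicalComplex.singleObjXSelf (ComplexShape.up ℤ) 0 M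
  let η := cplηCx I (sngl M)
  let P := (cplCx I).map (pC M fs)
  constructor
  · rintro ⟨r, rfl⟩
    obtain ⟨z, rfl⟩ := DMod.homologyπ_surjective _ 0 r
    let t := P.f 0 (((cplCx I).obj (DerCA.extCech M fs)).iCycles 0 z)
    have hof : Function.Bijective (AdicCompletion.of I M) := AdicCompletion.of_bijective_iff.2 hM
    have hη : Function.Surjective (η.f 0) := fun t' => by
      obtain ⟨m, hm⟩ := hof.2 ((cplF I).map x.hom t')
      refine ⟨x.inv m, ?_⟩
      have hi : Function.Injective ((cplF I).map x.hom) :=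
        ((ConcreteCategory.isIso_iff_bijective ((cplF I).map x.hom)).1 inferInstance).1
      refine hi ((ConcreteCategory.congr_hom ((cplη I).naturality x.hom) (x.inv m)).symm.trans ?_)
      exact (congrArg _ (ConcreteCategory.congr_hom x.inv_hom_id m)).trans hm
    obtain ⟨t', ht'⟩ := hη t
    obtain ⟨s, rfl⟩ : ∃ s, x.inv s = t' := ⟨x.hom t', ConcreteCategory.congr_hom x.hom_inv_id t'⟩
    refine ⟨s, torsMod_of_cycle I fs M _ (DMod.d_iCycles 0 1 z) s ht'.symm, ?_⟩
    obtain ⟨zs, hzs⟩ := DMod.homologyπ_surjective (sngl M) 0 (e.inv s)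
    rw [← hzs, DMod.homologyMap_π, DMod.homologyMap_π]
    refine congrArg _ (DMod.iCycles_injective _ 0 ?_)
    rw [DMod.iCycles_cyclesMap, DMod.iCycles_cyclesMap, cycle_single M s zs hzs]
    exact ht'
  · rintro ⟨s, hs, rfl⟩
    obtain ⟨w, hw, hPw⟩ := exists_cycle_of_torsMod I fs M s hs
    obtain ⟨z, hz⟩ := DMod.exists_cycle (K := (cplCx I).obj (DerCA.extCech M fs)) (k := 1) (by simp) w hw
    refine ⟨((cplCx I).obj (DerCA.extCech M fs)).homologyπ 0 z, ?_⟩
    obtain ⟨zs, hzs⟩ := DMod.homologyπ_surjective (sngl M) 0 (e.inv s)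
    rw [← hzs, DMod.homologyMap_π, DMod.homologyMap_π]
    refine congrArg _ (DMod.iCycles_injective _ 0 ?_)
    rw [DMod.iCycles_cyclesMap, DMod.iCycles_cyclesMap, cycle_single M s zs hzs, hz]
    exact hPw

theorem torsMod_iff [IsNoetherianRing A] [Module.Finite A M] (J : Ideal A)
    (hfs : Ideal.span {y : A | y ∈ fs} = J) (s : M) :
    TorsMod I fs M s ↔ ∃ J' : Ideal A, J' ≤ J ∧ J ≤ (J' ⊔ I).radical ∧ s ∈ DRing.torsionSub J' M := by
  constructor
  · intro h
    let N : Submodule A M := Submodule.span A {s}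
    let J₁ : Ideal A := LinearMap.ker (LinearMap.toSpanSingleton A M s)
    obtain ⟨c, hc⟩ := Ideal.exists_pow_inf_eq_pow_smul I N
    refine ⟨J ⊓ J₁, inf_le_left, ?_, ⟨1, fun a ha => ?_⟩⟩
    · rw [← hfs]
      refine Ideal.span_le.2 fun g hg => ?_
      obtain ⟨k, hk⟩ := h (c + 1) g hg
      have h1 : g ^ k • s ∈ I • N := by
        have hmem : g ^ k • s ∈ (I ^ (c + 1) • ⊤ : Submodule A M) ⊓ N :=
          ⟨hk, N.smul_mem _ (Submodule.mem_span_singleton_self s)⟩
        rw [hc (c + 1) (Nat.le_succ c), Nat.add_sub_cancel_left, pow_one] at hmem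
        exact Submodule.smul_mono le_rfl inf_le_right hmem
      obtain ⟨i, hi, he⟩ := Submodule.mem_smul_span_singleton.1 h1
      have hm : (g ^ k - i) ∈ J₁ := by
        rw [LinearMap.mem_ker, LinearMap.toSpanSingleton_apply, sub_smul, he, sub_self]
      refine ⟨k + 1, ?_⟩
      have : g ^ (k + 1) = g * (g ^ k - i) + g * i := by ring
      rw [this]
      exact add_mem (Ideal.mem_sup_left ⟨Ideal.mul_mem_right _ _ (Ideal.subset_span hg), Ideal.mul_mem_left _ _ hm⟩)
        (Ideal.mem_sup_right (I.mul_mem_left _ hi))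
    · rw [pow_one] at ha
      exact ha.2
  · rintro ⟨J', -, hJ', m, hm⟩ n g hg
    obtain ⟨k, hk⟩ : g ∈ (J' ^ m ⊔ I ^ n).radical := by
      have h1 : J ≤ (J' ^ m ⊔ I ^ n).radical := hJ'.trans (Ideal.radical_le_radical_iff.2 (sup_le
        (fun x hx => ⟨m, Ideal.mem_sup_left (Ideal.pow_mem_pow hx m)⟩)
        (fun x hx => ⟨n, Ideal.mem_sup_right (Ideal.pow_mem_pow hx n)⟩)))
      exact h1 (hfs ▸ Ideal.subset_span hg)
    obtain ⟨a, ha, b, hb, hab⟩ := Submodule.mem_sup.1 hk
    refine ⟨k, ?_⟩
    rw [← hab, add_smul, hm a ha, zero_add]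
    exact Submodule.smul_mem_smul hb Submodule.mem_top

theorem H0_derivedCompletion_RgammaI [IsNoetherianRing A] (J : Ideal A) [IsAdicComplete I A]
    [DRing.HasRgammaI J] [DRing.HasDerivedCompletion I] [Module.Finite A M] :
    Function.Injective ((DerivedCategory.homologyFunctor (ModuleCat.{u} A) 0).map
        ((ObjectProperty.ι (DRing.IsDerivedComplete I)).map ((DRing.derivedCompletion I).map
          ((DRing.RgammaIε J).app ((DerivedCategory.singleFunctor (ModuleCat.{u} A) 0).obj M))))).hom ∧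
      Set.range ((DerivedCategory.homologyFunctor (ModuleCat.{u} A) 0).map
        ((ObjectProperty.ι (DRing.IsDerivedComplete I)).map ((DRing.derivedCompletion I).map
          ((DRing.RgammaIε J).app ((DerivedCategory.singleFunctor (ModuleCat.{u} A) 0).obj M))))).hom =
      (fun s : M => ((DerivedCategory.homologyFunctor (ModuleCat.{u} A) 0).map
          (DRing.toDerivedCompletion I ((DerivedCategory.singleFunctor (ModuleCat.{u} A) 0).obj M))).hom
        (((DerivedCategory.singleFunctorCompHomologyFunctorIso (ModuleCat.{u} A) 0).inv.app M).hom s)) ''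
        {s : M | ∃ J' : Ideal A, J' ≤ J ∧ J ≤ (J' ⊔ I).radical ∧ s ∈ DRing.torsionSub J' M} := by
  obtain ⟨fs, hfs⟩ := exists_list J
  obtain ⟨sI, hs⟩ := exists_list I
  obtain ⟨κ, hκ⟩ := exists_comparison J fs hfs M
  let Kc := DerCA.extCech M fs
  let iM := (DerivedCategory.singleFunctor (ModuleCat.{u} A) 0).obj M
  let w := (DerivedCategory.singleFunctorIsoCompQ (ModuleCat.{u} A) 0).app M
  let unitR := DRing.toDerivedCompletion I ((DRing.RgammaI J).obj iM)
  let unitM := DRing.toDerivedCompletion I iM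
  have h1 := isCpl_cech I sI hs M fs
  have h2 : IsCpl {f | f ∈ sI} (κ.hom ≫ unitR) :=
    isCpl_iso (isCpl_unit I {f | f ∈ sI} hs _) κ.symm (Iso.refl _)
      ((Category.comp_id _).trans (κ.inv_hom_id_assoc _).symm)
  obtain ⟨u, hu⟩ := exists_iso_of_isCpl h1 h2
  have hgood : TGood M := ⟨M, ModuleCat.of A A, inferInstance, inferInstance,
    ⟨(TensorProduct.rid A M).symm.toModuleIso⟩⟩
  have h3 := isCpl_single_cx I sI hs 0 M hgood
  have h4 : IsCpl {f | f ∈ sI} (w.inv ≫ unitM) :=
    isCpl_iso (isCpl_unit I {f | f ∈ sI} hs iM) w (Iso.refl _)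
      ((Category.comp_id _).trans (w.hom_inv_id_assoc _).symm)
  obtain ⟨v, hv⟩ := exists_iso_of_isCpl h3 h4
  let F := (ObjectProperty.ι (DRing.IsDerivedComplete I)).map ((DRing.derivedCompletion I).map
    ((DRing.RgammaIε J).app iM))
  have hF : unitR ≫ F = (DRing.RgammaIε J).app iM ≫ unitM :=
    ((DRing.derivedCompletionAdj I).unit.naturality ((DRing.RgammaIε J).app iM)).symm
  have key : u.hom ≫ F = DerivedCategory.Q.map ((cplCx I).map (pC M fs)) ≫ v.hom := by
    apply (h1.2 _ h4.1).1
    show DerivedCategory.Q.map (cplηCx I Kc) ≫ u.hom ≫ F = DerivedCategory.Q.map (cplηCx I Kc) ≫ _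
    have hn : cplηCx I Kc ≫ (cplCx I).map (pC M fs) = pC M fs ≫ cplηCx I (sngl M) := by
      ext i : 1
      exact ((cplη I).naturality ((pC M fs).f i)).symm
    refine Eq.trans ?_ ((congrArg (DerivedCategory.Q.map (pC M fs) ≫ ·) hv.symm).trans
      ((Category.assoc _ _ _).symm.trans ((congrArg (· ≫ v.hom) ((DerivedCategory.Q.map_comp _ _).symm.trans
        ((congrArg DerivedCategory.Q.map hn.symm).trans (DerivedCategory.Q.map_comp _ _)))).trans
          (Category.assoc _ _ _))))
    refine (Category.assoc _ _ _).symm.trans ((congrArg (· ≫ F) hu).trans ?_)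
    refine (Category.assoc _ _ _).trans ((congrArg (κ.hom ≫ ·) hF).trans ?_)
    exact (Category.assoc _ _ _).symm.trans ((congrArg (· ≫ unitM) hκ).trans (Category.assoc _ _ _))
  let HH := DerivedCategory.homologyFunctor (ModuleCat.{u} A) 0
  let φ := fun X : DRing.Cx A => (DerivedCategory.homologyFunctorFactors (ModuleCat.{u} A) 0).app X
  let P := (cplCx I).map (pC M fs)
  have hP : ∀ x, HH.map F (HH.map u.hom x) = HH.map v.hom ((φ _).inv (HomologicalComplex.homologyMap P 0 ((φ _).hom x))) := by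
    intro x
    have e1 := ConcreteCategory.congr_hom ((HH.map_comp _ _).symm.trans ((congrArg HH.map key).trans (HH.map_comp _ _))) x
    have e2 := ConcreteCategory.congr_hom
      ((DerivedCategory.homologyFunctorFactors (ModuleCat.{u} A) 0).hom.naturality P) x
    refine e1.trans (congrArg (HH.map v.hom) ?_)
    refine ((ConcreteCategory.congr_hom (φ _).hom_inv_id (HH.map (DerivedCategory.Q.map P) x)).symm.trans ?_)
    exact congrArg (φ _).inv e2
  have hvb := (ConcreteCategory.isIso_iff_bijective (HH.map v.hom)).1 inferInstance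
  have hub := (ConcreteCategory.isIso_iff_bijective (HH.map u.hom)).1 inferInstance
  have hφb : ∀ X, Function.Bijective (φ X).hom := fun X => (ConcreteCategory.isIso_iff_bijective (φ X).hom).1 inferInstance
  have hφi : ∀ X, Function.Bijective (φ X).inv := fun X => (ConcreteCategory.isIso_iff_bijective (φ X).inv).1 inferInstance
  let e := HomologicalComplex.singleObjHomologySelfIso (ComplexShape.up ℤ) 0 M
  have hs' : ∀ s : M, HH.map v.hom ((φ _).inv (HomologicalComplex.homologyMap (cplηCx I (sngl M)) 0 (e.inv s))) =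
      HH.map unitM ((DerivedCategory.singleFunctorCompHomologyFunctorIso (ModuleCat.{u} A) 0).inv.app M s) := by
    intro s
    have e0 : DerivedCategory.Q.map (cplηCx I (sngl M)) ≫ v.hom = unitM := hv.trans (Category.id_comp unitM)
    have e1 := ConcreteCategory.congr_hom
      ((DerivedCategory.homologyFunctorFactors (ModuleCat.{u} A) 0).inv.naturality (cplηCx I (sngl M))) (e.inv s)
    have e2 : (DerivedCategory.singleFunctorCompHomologyFunctorIso (ModuleCat.{u} A) 0).inv.app M s =
        (φ (sngl M)).inv (e.inv s) := by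
      simp [DerivedCategory.singleFunctorCompHomologyFunctorIso, DerivedCategory.singleFunctorsPostcompQIso_inv_hom, φ, e]
      erw [CategoryTheory.Functor.map_id]
      rfl
    rw [e2]
    refine (congrArg (HH.map v.hom) e1).trans ?_
    exact ConcreteCategory.congr_hom ((HH.map_comp _ _).symm.trans (congrArg HH.map e0)) _
  refine ⟨fun a b hab => ?_, Set.ext fun q => ⟨?_, ?_⟩⟩
  · obtain ⟨a, rfl⟩ := hub.2 a
    obtain ⟨b, rfl⟩ := hub.2 b
    rw [hP, hP] at hab
    exact congrArg _ ((hφb _).1 (h0_injective I fs M ((hφi _).1 (hvb.1 hab))))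
  · rintro ⟨a, rfl⟩
    obtain ⟨a, rfl⟩ := hub.2 a
    obtain ⟨s, hs1, hs2⟩ := (mem_range_h0_iff I fs M (Compl.isAdicComplete_of_finite I M) _).1 ⟨_, rfl⟩
    refine ⟨s, (torsMod_iff I fs M J hfs s).1 hs1, ?_⟩
    exact (hs' s).symm.trans ((congrArg (fun t => HH.map v.hom ((φ _).inv t)) hs2).trans (hP a).symm)
  · rintro ⟨s, hs1, rfl⟩
    obtain ⟨r, hr⟩ := (mem_range_h0_iff I fs M (Compl.isAdicComplete_of_finite I M) _).2
      ⟨s, (torsMod_iff I fs M J hfs s).2 hs1, rfl⟩
    obtain ⟨r, rfl⟩ := (hφb _).2 r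
    refine ⟨HH.map u.hom r, (hP r).trans ?_⟩
    rw [hr]
    exact hs' s

end Groth.Agent.CplRlim27
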