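import Groth.Agent.Lib.CplRlim27.Cech

/-!
# Derived completion of `RΓ_J(M)`: derived limit description and `H⁰`
-/

set_option autoImplicit false
universe u

open CategoryTheory CategoryTheory.Limits CategoryTheory.Pretriangulated

attribute [local instance] HasDerivedCategory.standard

noncomputable section

namespace Groth.Agent.CplRlim27

open TorsBC27 DCpl

variable {A : Type u} [CommRing A] [IsNoetherianRing A] (I J : Ideal A)

theorem exists_iso_of_isCpl {s : Set A} {K C C' : Dual.D A} {η : K ⟶ C} {η' : K ⟶ C'} (h : IsCpl s η)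
    (h' : IsCpl s η') : ∃ u : C ≅ C', η ≫ u.hom = η' := by
  obtain ⟨u, hu⟩ := (h.2 C' h'.1).2 η'
  obtain ⟨v, hv⟩ := (h'.2 C h.1).2 η
  have hu' : η ≫ u = η' := hu
  have hv' : η' ≫ v = η := hv
  refine ⟨⟨u, v, (h.2 C h.1).1 ?_, (h'.2 C' h'.1).1 ?_⟩, hu'⟩
  · change η ≫ u ≫ v = η ≫ 𝟙 C
    rw [← Category.assoc, hu', hv', Category.comp_id]
  · change η' ≫ v ≫ u = η' ≫ 𝟙 C'
    rw [← Category.assoc, hv', hu', Category.comp_id]

theorem exists_list (J : Ideal A) : ∃ fs : List A, Ideal.span {y : A | y ∈ fs} = J :=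
  have ⟨T, hT⟩ := IsNoetherian.noetherian J
  ⟨T.toList, by rw [← hT]; congr 1; ext; simp⟩

omit [IsNoetherianRing A] in
theorem subsingleton_cpl {M : Type u} [AddCommGroup M] [Module A M] (h : Subsingleton M) :
    Subsingleton (AdicCompletion I M) :=
  subsingleton_of_forall_eq 0 fun x => AdicCompletion.ext fun n => Subsingleton.elim _ _

theorem isCpl_cech (s : List A) (hs : Ideal.span {f | f ∈ s} = I) (M : ModuleCat.{u} A) [Module.Finite A M]
    (fs : List A) : IsCpl {f | f ∈ s} (DerivedCategory.Q.map (cplηCx I (DerCA.extCech M fs))) := by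
  have := RGamma27.isStrictlyLE_cech (A := A) fs
  have hLE : (DerCA.extCech M fs).IsStrictlyLE (fs.length : ℤ) := by
    rw [CochainComplex.isStrictlyLE_iff]
    exact fun i hi => (DMod.isZero_iff_subsingleton _).2
      (subsingleton_of_forall_eq 0 (ExtCechLib.X_range M fs i (Or.inr hi)))
  have hGE : (DerCA.extCech M fs).IsStrictlyGE ((fs.length : ℤ) + 1 - ((fs.length + 1 : ℕ) : ℤ)) := by
    rw [CochainComplex.isStrictlyGE_iff]
    exact fun i hi => (DMod.isZero_iff_subsingleton _).2
      (subsingleton_of_forall_eq 0 (ExtCechLib.X_range M fs i (Or.inl (by push_cast at hi; omega))))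
  exact isCpl_cplηCx I s hs (fs.length : ℤ) (fs.length + 1) _ (tGood_cech M fs)

theorem exists_comparison [DRing.HasRgammaI J] (fs : List A) (hfs : Ideal.span {y : A | y ∈ fs} = J)
    (M : ModuleCat.{u} A) :
    ∃ k : DerivedCategory.Q.obj (DerCA.extCech M fs) ≅
        (DRing.RgammaI J).obj ((DerivedCategory.singleFunctor (ModuleCat.{u} A) 0).obj M),
      k.hom ≫ (DRing.RgammaIε J).app _ = DerivedCategory.Q.map (pC M fs) ≫
        ((DerivedCategory.singleFunctorIsoCompQ (ModuleCat.{u} A) 0).app M).inv := by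
  refine exists_unique_comparison J fs hfs _ (gTors_extCech M fs) _ _ fun Y hY => ?_
  have h := bij_pC M fs Y hY
  have hcomp : Function.Bijective (fun f : DerivedCategory.Q.obj Y ⟶ _ =>
      f ≫ ((DerivedCategory.singleFunctorIsoCompQ (ModuleCat.{u} A) 0).app M).inv) :=
    (Iso.homCongr (Iso.refl (DerivedCategory.Q.obj Y))
      ((DerivedCategory.singleFunctorIsoCompQ (ModuleCat.{u} A) 0).app M).symm).bijective.comp
      Function.bijective_id |> fun hb => by
        convert hb using 1
        funext f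
        exact (Category.id_comp _).symm
  convert hcomp.comp h using 1
  funext f
  exact (Category.assoc _ _ _).symm

theorem derivedCompletion_RgammaI_rlim [DRing.HasRgammaI J] [DRing.HasDerivedCompletion I]
    [∀ K : ℕ → Dual.D A, HasProduct K] (M : ModuleCat.{u} A) [Module.Finite A M] :
    DCoh.IsRlim (fun n : ℕ => (DRing.RgammaI J).obj ((DerivedCategory.singleFunctor (ModuleCat.{u} A) 0).obj ((qF I n).obj M)))
      (fun n : ℕ => (DRing.RgammaI J).map ((DerivedCategory.singleFunctor (ModuleCat.{u} A) 0).map ((qτ I n).app M)))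
      ((DRing.derivedCompletion I).obj ((DRing.RgammaI J).obj ((DerivedCategory.singleFunctor (ModuleCat.{u} A) 0).obj M))).obj ∧
    ∀ i : ℤ, i < 0 → Subsingleton (Dual.HD A ((DRing.derivedCompletion I).obj ((DRing.RgammaI J).obj
      ((DerivedCategory.singleFunctor (ModuleCat.{u} A) 0).obj M))).obj i) := by
  obtain ⟨fs, hfs⟩ := exists_list J
  obtain ⟨s, hs⟩ := exists_list I
  let K := DerCA.extCech M fs
  obtain ⟨κ, -⟩ := exists_comparison J fs hfs M
  have h1 := isCpl_cech I s hs M fs
  have h2 : IsCpl {f | f ∈ s} (κ.hom ≫ DRing.toDerivedCompletion I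
      ((DRing.RgammaI J).obj ((DerivedCategory.singleFunctor (ModuleCat.{u} A) 0).obj M))) :=
    isCpl_iso (isCpl_unit I {f | f ∈ s} hs _) κ.symm (Iso.refl _)
      ((Category.comp_id _).trans (κ.inv_hom_id_assoc _).symm)
  obtain ⟨u, -⟩ := exists_iso_of_isCpl h1 h2
  refine ⟨?_, fun i hi => ?_⟩
  · let C := fun n : ℕ => (qCx I n).obj K
    have hk : ∀ n, ∃ k : DerivedCategory.Q.obj (C n) ≅ (DRing.RgammaI J).obj
        ((DerivedCategory.singleFunctor (ModuleCat.{u} A) 0).obj ((qF I n).obj M)),
        k.hom ≫ (DRing.RgammaIε J).app _ = DerivedCategory.Q.map (pQ I n M fs) ≫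
          ((DerivedCategory.singleFunctorIsoCompQ (ModuleCat.{u} A) 0).app ((qF I n).obj M)).inv := fun n => by
      refine exists_unique_comparison J fs hfs _ (gTors_qCech I n M fs) _ _ fun Y hY => ?_
      have h := bij_pQ I n M fs Y hY
      let w := ((DerivedCategory.singleFunctorIsoCompQ (ModuleCat.{u} A) 0).app ((qF I n).obj M))
      exact ⟨fun a b hab => h.1 ((cancel_mono w.inv).1 (((Category.assoc _ _ _).trans hab).trans
          (Category.assoc _ _ _).symm)),
        fun b => ⟨(h.2 (b ≫ w.hom)).choose, (Category.assoc _ _ _).symm.trans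
          ((congrArg (· ≫ w.inv) (h.2 (b ≫ w.hom)).choose_spec).trans
            ((Category.assoc _ _ _).trans ((congrArg (b ≫ ·) w.hom_inv_id).trans (Category.comp_id b))))⟩⟩
    choose k hk using hk
    refine isRlim_of_termwise C
      (fun n => (NatTrans.mapHomologicalComplex (qτ I n) (ComplexShape.up ℤ)).app K) ((cplCx I).obj K)
      (fun n => (NatTrans.mapHomologicalComplex (cplProj I n) (ComplexShape.up ℤ)).app K) (fun n => ?_)
      (fun j x hx => AdicCompletion.ext hx) (fun j x hx => ?_) (fun j n y => ?_) _ _ k (fun n => ?_) _ u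
    · ext j : 1
      exact congrArg (fun τ => NatTrans.app τ (K.X j)) (cplProj_qτ I n)
    · let v : ∀ n, (K.X j : Type u) ⧸ (I ^ n • ⊤ : Submodule A (K.X j)) := x
      have hv : ∀ n, AdicCompletion.transitionMap I (K.X j) (Nat.le_succ n) (v (n + 1)) = v n := hx
      refine ⟨⟨v, fun {m n} hmn => ?_⟩, fun n => rfl⟩
      induction n, hmn using Nat.le_induction with
      | base =>
        obtain ⟨w, hw⟩ := Submodule.Quotient.mk_surjective _ (v m)
        rw [← hw]
        rfl
      | succ n hmn ih =>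
        obtain ⟨w, hw⟩ := Submodule.Quotient.mk_surjective _ (v (n + 1))
        rw [← ih, ← hv n, ← hw]
        rfl
    · obtain ⟨w, hw⟩ := Submodule.Quotient.mk_surjective _
        (y : (K.X j : Type u) ⧸ (I ^ n • ⊤ : Submodule A (K.X j)))
      exact ⟨(Submodule.Quotient.mk w : (K.X j : Type u) ⧸ (I ^ (n + 1) • ⊤ : Submodule A (K.X j))), hw⟩
    · apply (RGamma27.comp_ε_bijective J _ _ (hd_of_gTors J fs hfs _ (gTors_qCech I (n + 1) M fs))).1
      show (_ ≫ _) ≫ _ = (_ ≫ _) ≫ _
      rw [Category.assoc, hk n, Category.assoc]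
      refine Eq.trans ?_ (congrArg ((k (n + 1)).hom ≫ ·) ((DRing.RgammaIε J).naturality _)).symm
      erw [← Category.assoc (k (n + 1)).hom, hk (n + 1), Category.assoc]
      refine Eq.trans ((Category.assoc _ _ _).symm.trans (congrArg (· ≫ _)
        (((DerivedCategory.Q.map_comp _ _).symm.trans (congrArg DerivedCategory.Q.map (qτ_pQ I n M fs))).trans
          (DerivedCategory.Q.map_comp _ _)))) ?_
      refine (Category.assoc _ _ _).trans (congrArg (DerivedCategory.Q.map (pQ I (n + 1) M fs) ≫ ·) ?_)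
      exact (DerivedCategory.singleFunctorIsoCompQ (ModuleCat.{u} A) 0).inv.naturality ((qτ I n).app M)
  · obtain ⟨l⟩ := RGamma27.HD_iso (K := (cplCx I).obj K) i
    have hz : IsZero (((cplCx I).obj K).homology i) := by
      refine HomologicalComplex.ExactAt.isZero_homology (HomologicalComplex.ExactAt.of_isZero ?_)
      exact (DMod.isZero_iff_subsingleton _).2 (subsingleton_cpl I
        (subsingleton_of_forall_eq 0 (ExtCechLib.X_range M fs i (Or.inl hi))))
    have := ModuleCat.subsingleton_of_isZero hz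
    exact (((DMod.HH i).mapIso u).symm.toLinearEquiv.trans l).toEquiv.subsingleton

end Groth.Agent.CplRlim27
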