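import Groth.Agent.Lib.KInj.Derived
import Groth.Agent.Lib.KInj.Resolution
import Groth.Agent.Lib.DMod.Homology
import Groth.Prelude.Def_DCoh2
import Groth.Prelude.Def_DRing3
import Mathlib.Algebra.Homology.DerivedCategory.ShortExact
import Mathlib.CategoryTheory.Limits.Preserves.Shapes.Products
import Mathlib.Algebra.Homology.HomologicalComplexLimits
import Mathlib.Algebra.Category.ModuleCat.Limits

/-!
# Countable products and derived limits of complexes of modules

Products of complexes of modules are products in the derived category, and a termwise surjective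
inverse system of complexes has its termwise limit as derived limit.
-/

set_option autoImplicit false
universe u

open CategoryTheory CategoryTheory.Limits CategoryTheory.Pretriangulated

attribute [local instance] HasDerivedCategory.standard

noncomputable section

namespace Groth.Agent.CplRlim27

variable {A : Type u} [CommRing A] (K : ℕ → DRing.Cx A) [HasProduct K]

/-- The product is computed termwise. -/
def isLimitX (j : ℤ) : IsLimit (Fan.mk ((∏ᶜ K).X j) fun n => (Pi.π K n).f j) :=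
  isLimitFanMkObjOfIsLimit (HomologicalComplex.eval (ModuleCat.{u} A) (ComplexShape.up ℤ) j) K (Pi.π K)
    (productIsProduct K)

theorem pi_ext (j : ℤ) {x y : (∏ᶜ K).X j} (h : ∀ n, (Pi.π K n).f j x = (Pi.π K n).f j y) : x = y := by
  have e : ModuleCat.ofHom (LinearMap.toSpanSingleton A ((∏ᶜ K).X j) x) =
      ModuleCat.ofHom (LinearMap.toSpanSingleton A ((∏ᶜ K).X j) y) :=
    Fan.IsLimit.hom_ext (isLimitX K j) _ _ fun n => ModuleCat.hom_ext (LinearMap.ext_ring (by
      show (Pi.π K n).f j ((1 : A) • x) = (Pi.π K n).f j ((1 : A) • y)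
      rw [one_smul, one_smul, h n]))
  simpa using ConcreteCategory.congr_hom e (1 : A)

theorem pi_exists (j : ℤ) (x : ∀ n, (K n).X j) : ∃ z : (∏ᶜ K).X j, ∀ n, (Pi.π K n).f j z = x n := by
  let f := Fan.IsLimit.lift (isLimitX K j) fun n => ModuleCat.ofHom (LinearMap.toSpanSingleton A ((K n).X j) (x n))
  refine ⟨f (1 : A), fun n => ?_⟩
  have := ConcreteCategory.congr_hom (Fan.IsLimit.fac (isLimitX K j)
    (fun n => ModuleCat.ofHom (LinearMap.toSpanSingleton A ((K n).X j) (x n))) n) (1 : A)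
  exact this.trans (one_smul A (x n))

theorem pi_map_f {L : ℕ → DRing.Cx A} [HasProduct L] (f : ∀ n, K n ⟶ L n) (j : ℤ) (z : (∏ᶜ K).X j) (n : ℕ) :
    (Pi.π L n).f j ((Limits.Pi.map f).f j z) = (f n).f j ((Pi.π K n).f j z) :=
  ConcreteCategory.congr_hom (congrArg (fun t => HomologicalComplex.Hom.f t j) (Limits.Pi.map_π f n)) z

theorem pi_d (i j : ℤ) (z : (∏ᶜ K).X i) (n : ℕ) :
    (Pi.π K n).f j ((∏ᶜ K).d i j z) = (K n).d i j ((Pi.π K n).f i z) :=
  ConcreteCategory.congr_hom ((Pi.π K n).comm i j).symm z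

theorem quasiIso_piMap {L : ℕ → DRing.Cx A} [HasProduct L] (f : ∀ n, K n ⟶ L n) (hf : ∀ n, QuasiIso (f n)) :
    QuasiIso (Limits.Pi.map f) := by
  refine ⟨fun j => (quasiIsoAt_iff_isIso_homologyMap _ _).2 ?_⟩
  refine (ConcreteCategory.isIso_iff_bijective _).2 ?_
  have hb : ∀ n, Function.Bijective (HomologicalComplex.homologyMap (f n) j) := fun n =>
    have := hf n
    (ConcreteCategory.isIso_iff_bijective _).1 ((quasiIsoAt_iff_isIso_homologyMap _ _).1 inferInstance)
  refine DMod.homologyMap_bijective_of _ (i := j - 1) (k := j + 1) (by simp) (by simp) (fun x hx => ?_)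
    (fun w y hw hy => ?_)
  · have key : ∀ n, ∃ (w : (K n).X j) (y : (L n).X (j - 1)), (K n).d j (j + 1) w = 0 ∧
        (f n).f j w + (L n).d (j - 1) j y = (Pi.π L n).f j x := fun n => by
      obtain ⟨z, hz⟩ := DMod.exists_cycle (K := L n) (k := j + 1) (by simp) ((Pi.π L n).f j x)
        (by rw [← pi_d, hx, map_zero])
      obtain ⟨q, hq⟩ := (hb n).2 ((L n).homologyπ j z)
      obtain ⟨w, rfl⟩ := DMod.homologyπ_surjective (K n) j q
      rw [DMod.homologyMap_π, eq_comm, ← sub_eq_zero, ← map_sub] at hq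
      obtain ⟨y, hy⟩ := (DMod.homologyπ_eq_zero_iff (K := L n) (i := j - 1) (by simp) _).1 hq
      refine ⟨(K n).iCycles j w, y, DMod.d_iCycles j (j + 1) w, ?_⟩
      rw [hy, map_sub, hz, DMod.iCycles_cyclesMap, add_sub_cancel]
    choose w y hw hy using key
    obtain ⟨W, hW⟩ := pi_exists K j w
    obtain ⟨Y, hY⟩ := pi_exists L (j - 1) y
    refine ⟨W, Y, pi_ext K _ fun n => ?_, pi_ext L _ fun n => ?_⟩
    · rw [pi_d, hW, hw, map_zero]
    · rw [map_add, pi_map_f, pi_d, hW, hY, hy]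
  · have key : ∀ n, ∃ v : (K n).X (j - 1), (K n).d (j - 1) j v = (Pi.π K n).f j w := fun n => by
      obtain ⟨z, hz⟩ := DMod.exists_cycle (K := K n) (k := j + 1) (by simp) ((Pi.π K n).f j w)
        (by rw [← pi_d, hw, map_zero])
      have h0 : (K n).homologyπ j z = 0 := (hb n).1 (by
        rw [map_zero, DMod.homologyMap_π]
        refine (DMod.homologyπ_eq_zero_iff (K := L n) (i := j - 1) (by simp) _).2 ⟨(Pi.π L n).f (j - 1) y, ?_⟩
        rw [DMod.iCycles_cyclesMap, hz, ← pi_d, hy, pi_map_f])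
      obtain ⟨v, hv⟩ := (DMod.homologyπ_eq_zero_iff (K := K n) (i := j - 1) (by simp) _).1 h0
      exact ⟨v, hv.trans hz⟩
    choose v hv using key
    obtain ⟨V, hV⟩ := pi_exists K (j - 1) v
    exact ⟨V, pi_ext K _ fun n => by rw [pi_d, hV, hv]⟩

/-- A countable product of complexes is a product in the derived category. -/
theorem nonempty_isLimit_Q :
    Nonempty (IsLimit (Fan.mk (DerivedCategory.Q.obj (∏ᶜ K)) fun n => DerivedCategory.Q.map (Pi.π K n))) := by
  choose J f hJ hf _ _ using fun n => KInjLib.exists_resolution (K n)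
  have hJ' : ∀ n, (J n).IsKInjective := hJ
  have hp := quasiIso_piMap K f hf
  have hfi : ∀ n, IsIso (DerivedCategory.Q.map (f n)) := fun n =>
    (DerivedCategory.isIso_Q_map_iff_quasiIso _ (f n)).2 (hf n)
  let hl := KInjLib.isLimitPi J hJ'
  let e : DerivedCategory.Q.obj (∏ᶜ K) ≅ DerivedCategory.Q.obj (∏ᶜ J) :=
    @asIso _ _ _ _ (DerivedCategory.Q.map (Limits.Pi.map f)) ((DerivedCategory.isIso_Q_map_iff_quasiIso _ _).2 hp)
  have comm : ∀ n, DerivedCategory.Q.map (Pi.π K n) ≫ DerivedCategory.Q.map (f n) =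
      e.hom ≫ DerivedCategory.Q.map (Pi.π J n) := fun n => by
    rw [asIso_hom, ← Functor.map_comp, ← Functor.map_comp, Limits.Pi.map_π]
  refine ⟨mkFanLimit _ (fun s => Fan.IsLimit.lift hl (fun n => s.proj n ≫ DerivedCategory.Q.map (f n)) ≫ e.inv)
    (fun s n => ?_) fun s m hm => ?_⟩
  · refine (cancel_mono (DerivedCategory.Q.map (f n))).1 ?_
    refine ((Category.assoc _ _ _).trans ((congrArg (_ ≫ ·) (comm n)).trans ((Category.assoc _ _ _).trans
      ((congrArg (_ ≫ ·) (e.inv_hom_id_assoc _)).trans ?_))))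
    exact Fan.IsLimit.fac hl _ n
  · refine (cancel_mono e.hom).1 ?_
    refine Eq.trans ?_ ((Category.assoc _ _ _).trans
      ((congrArg (_ ≫ ·) e.inv_hom_id).trans (Category.comp_id _))).symm
    refine Fan.IsLimit.hom_ext hl _ _ fun n => ?_
    refine Eq.trans ?_ (Fan.IsLimit.fac hl (fun n => s.proj n ≫ DerivedCategory.Q.map (f n)) n).symm
    exact ((Category.assoc _ _ _).trans (congrArg (m ≫ ·) (comm n).symm)).trans
      ((Category.assoc _ _ _).symm.trans (congrArg (· ≫ DerivedCategory.Q.map (f n)) (hm n)))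

omit K

/-- Derived limit of a termwise surjective inverse system of complexes. -/
theorem isRlim_of_termwise (C : ℕ → DRing.Cx A) [HasProduct C] (t : ∀ n, C (n + 1) ⟶ C n) (L : DRing.Cx A) (a : ∀ n, L ⟶ C n)
    (hat : ∀ n, a (n + 1) ≫ t n = a n)
    (hinj : ∀ (j : ℤ) (x : L.X j), (∀ n, (a n).f j x = 0) → x = 0)
    (hlift : ∀ (j : ℤ) (x : ∀ n, (C n).X j), (∀ n, (t n).f j (x (n + 1)) = x n) → ∃ y, ∀ n, (a n).f j y = x n)
    (hsurj : ∀ (j : ℤ) (n : ℕ), Function.Surjective ((t n).f j))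
    (K' : ℕ → Dual.D A) (t' : ∀ n, K' (n + 1) ⟶ K' n) [HasProduct K'] (k : ∀ n, DerivedCategory.Q.obj (C n) ≅ K' n)
    (hk : ∀ n, DerivedCategory.Q.map (t n) ≫ (k n).hom = (k (n + 1)).hom ≫ t' n)
    (L' : Dual.D A) (l : DerivedCategory.Q.obj L ≅ L') : DCoh.IsRlim K' t' L' := by
  let P := ∏ᶜ C
  let S : ShortComplex (DRing.Cx A) := ShortComplex.mk (Pi.lift a)
    (Pi.lift fun n => Pi.π C n - Pi.π C (n + 1) ≫ t n) (Pi.hom_ext _ _ fun n => by
      rw [zero_comp, Category.assoc, Pi.lift_π, Preadditive.comp_sub, Pi.lift_π, Pi.lift_π_assoc, hat, sub_self])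
  have hf : ∀ (j : ℤ) (y : L.X j) (n : ℕ), (Pi.π C n).f j ((Pi.lift a).f j y) = (a n).f j y := fun j y n =>
    ConcreteCategory.congr_hom (congrArg (fun t => HomologicalComplex.Hom.f t j) (Pi.lift_π a n)) y
  have hg : ∀ (j : ℤ) (z : P.X j) (n : ℕ), (Pi.π C n).f j (S.g.f j z) =
      (Pi.π C n).f j z - (t n).f j ((Pi.π C (n + 1)).f j z) := fun j z n =>
    ConcreteCategory.congr_hom (congrArg (fun t => HomologicalComplex.Hom.f t j)
      (Pi.lift_π (fun n => Pi.π C n - Pi.π C (n + 1) ≫ t n) n)) z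
  have hS : S.ShortExact := by
    refine HomologicalComplex.shortExact_of_degreewise_shortExact S fun j => ?_
    refine ModuleCat.shortComplex_shortExact _ (fun z => ⟨fun h => ?_, ?_⟩) ?_ (fun y => ?_)
    · obtain ⟨y, hy⟩ := hlift j (fun n => (Pi.π C n).f j z) fun n => by
        have h' : (Pi.π C n).f j (S.g.f j z) = 0 := by
          have h0 : S.g.f j z = 0 := h
          rw [h0, map_zero]
        rw [hg, sub_eq_zero] at h'
        exact h'.symm
      exact ⟨y, pi_ext C j fun n => (hf j y n).trans (hy n)⟩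
    · rintro ⟨y, rfl⟩
      refine pi_ext C j fun n => ?_
      refine (hg j _ n).trans ?_
      erw [map_zero, hf, hf, ← ConcreteCategory.congr_hom (congrArg (fun t => HomologicalComplex.Hom.f t j) (hat n)) y]
      exact sub_self _
    · refine (injective_iff_map_eq_zero _).2 fun y h => hinj j y fun n => ?_
      rw [← hf j y n]
      have h' : (Pi.lift a).f j y = 0 := h
      rw [h', map_zero]
    · let x : ∀ n, (C n).X j := fun n => Nat.rec (motive := fun n => (C n).X j) 0
        (fun m r => (hsurj j m (r - (Pi.π C m).f j y)).choose) n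
      have hx : ∀ n, x n - (t n).f j (x (n + 1)) = (Pi.π C n).f j y := fun n => by
        rw [show (t n).f j (x (n + 1)) = x n - (Pi.π C n).f j y from
          (hsurj j n (x n - (Pi.π C n).f j y)).choose_spec, sub_sub_cancel]
      obtain ⟨z, hz⟩ := pi_exists C j x
      exact ⟨z, pi_ext C j fun n => (hg j z n).trans (by rw [hz, hz, hx])⟩
  obtain ⟨hl⟩ := nonempty_isLimit_Q C
  let e : DerivedCategory.Q.obj P ≅ ∏ᶜ K' :=
    { hom := Pi.lift fun n => DerivedCategory.Q.map (Pi.π C n) ≫ (k n).hom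
      inv := Fan.IsLimit.lift hl fun n => Pi.π K' n ≫ (k n).inv
      hom_inv_id := Fan.IsLimit.hom_ext hl _ _ fun n => by
        rw [Category.assoc]
        erw [Fan.IsLimit.fac hl, Pi.lift_π_assoc, Category.assoc, Iso.hom_inv_id, Category.comp_id]
      inv_hom_id := Pi.hom_ext _ _ fun n => by
        rw [Category.assoc, Pi.lift_π, Category.id_comp]
        refine (Category.assoc _ _ _).symm.trans ?_
        erw [Fan.IsLimit.fac hl, Category.assoc, Iso.inv_hom_id, Category.comp_id] }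
  let T := DerivedCategory.triangleOfSES hS
  refine ⟨l.inv ≫ T.mor₁ ≫ e.hom, e.inv ≫ T.mor₃ ≫ l.hom⟦(1 : ℤ)⟧', ?_⟩
  refine isomorphic_distinguished _ (DerivedCategory.triangleOfSES_distinguished hS) _
    (Triangle.isoMk _ T l.symm e.symm e.symm ?_ ?_ ?_)
  · show (l.inv ≫ DerivedCategory.Q.map S.f ≫ e.hom) ≫ e.inv = l.inv ≫ DerivedCategory.Q.map S.f
    rw [Category.assoc, Category.assoc, Iso.hom_inv_id, Category.comp_id]
  · show (Pi.lift fun n => Pi.π K' n - Pi.π K' (n + 1) ≫ t' n) ≫ e.inv =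
      e.inv ≫ DerivedCategory.Q.map (Pi.lift fun n => Pi.π C n - Pi.π C (n + 1) ≫ t n)
    rw [Iso.comp_inv_eq, Category.assoc, Iso.eq_inv_comp]
    refine Pi.hom_ext _ _ fun n => ?_
    simp only [e, Category.assoc, Pi.lift_π, Preadditive.comp_sub, Pi.lift_π_assoc]
    rw [← Functor.map_comp_assoc, Pi.lift_π, Functor.map_sub, Preadditive.sub_comp, Functor.map_comp]
    simp only [Category.assoc, hk]
  · show (e.inv ≫ T.mor₃ ≫ l.hom⟦(1 : ℤ)⟧') ≫ (shiftFunctor (Dual.D A) (1 : ℤ)).map l.inv = e.inv ≫ T.mor₃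
    rw [Category.assoc, Category.assoc]
    exact congrArg (e.inv ≫ ·) ((congrArg (T.mor₃ ≫ ·)
      ((shiftFunctor (Dual.D A) (1 : ℤ)).mapIso l).hom_inv_id).trans (Category.comp_id _))

end Groth.Agent.CplRlim27
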